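import Groth.Prelude.Def_ModSt
import Groth.Agent.PicBdd.InvLocus
import Groth.Agent.FibDepth.Global
import Groth.Agent.ModDesc.Iso

/-!
The locus of rank-one freeness of a finitely presented module flat over the base, without noetherian hypotheses.
-/

set_option autoImplicit false
set_option linter.unusedSectionVars false
set_option linter.style.haveILetI false
set_option backward.isDefEq.respectTransparency false

universe u

open CategoryTheory CategoryTheory.Limits AlgebraicGeometry TopologicalSpace Opposite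
open TensorProduct
open Groth.Agent.PicBdd (Free1)

noncomputable section

namespace Groth.Agent.PicStOpen

variable {P : Scheme.{u}}

theorem isOpen_free1 {G : P.Modules} (hG : CohB1.IsFP G) :
    IsOpen {x | Free1 G x} := by
  classical
  haveI := FibDepth.isQCoh_of_isFP hG
  refine isOpen_iff_forall_mem_open.2 fun x ⟨ex⟩ => ?_
  obtain ⟨U, hU, hxU⟩ := Groth.Agent.QC.exists_affine_mem x
  haveI := LocFree.finitePresentation_sections_of_isFP (FibDepth.isQCoh_of_isFP hG) hG hU
  letI := (P.presheaf.germ U x hxU).hom.toAlgebra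
  haveI := hU.isLocalization_stalk ⟨x, hxU⟩
  obtain ⟨g, hg⟩ := LocFree.exists_stalkMap hU (FibDepth.isQCoh_of_isFP hG) hxU
  letI := Module.compHom (G.presheaf.stalk x) (P.presheaf.germ U x hxU).hom
  haveI : IsScalarTower Γ(P, U) (P.presheaf.stalk x) (G.presheaf.stalk x) :=
    ⟨fun a c m => mul_smul ((P.presheaf.germ U x hxU).hom a) c m⟩
  haveI := hg
  let S := (hU.primeIdealOf ⟨x, hxU⟩).asIdeal.primeCompl
  haveI : Module.Free (P.presheaf.stalk x) (G.presheaf.stalk x) :=
    Module.Free.of_equiv ex.symm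
  obtain ⟨r, hr, hr', -⟩ := Module.FinitePresentation.exists_free_localizedModule_powers S g (P.presheaf.stalk x)
  obtain ⟨hf1, hf2⟩ := LocFree.free_finite_basicOpen (FibDepth.isQCoh_of_isFP hG) hU r (M := G)
  have hD := hU.basicOpen r
  have hxD : x ∈ P.basicOpen r :=
    (P.mem_basicOpen r x hxU).2 (IsLocalization.map_units (P.presheaf.stalk x) (⟨r, hr⟩ : S))
  refine ⟨(P.basicOpen r : Set P), fun y hy => ?_, (P.basicOpen r).2, hxD⟩
  let b := Module.Free.chooseBasis Γ(P, P.basicOpen r) Γ(G, P.basicOpen r)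
  have key : ∀ (z : P) (hz : z ∈ P.basicOpen r),
      Nonempty (Module.Basis (Module.Free.ChooseBasisIndex Γ(P, P.basicOpen r) Γ(G, P.basicOpen r))
        (P.presheaf.stalk z) (G.presheaf.stalk z)) := fun z hz => by
    letI := (P.presheaf.germ (P.basicOpen r) z hz).hom.toAlgebra
    haveI := hD.isLocalization_stalk ⟨z, hz⟩
    obtain ⟨g', hg'⟩ := LocFree.exists_stalkMap hD (FibDepth.isQCoh_of_isFP hG) hz
    letI := Module.compHom (G.presheaf.stalk z) (P.presheaf.germ (P.basicOpen r) z hz).hom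
    haveI : IsScalarTower Γ(P, P.basicOpen r) (P.presheaf.stalk z) (G.presheaf.stalk z) :=
      ⟨fun a c m => mul_smul ((P.presheaf.germ (P.basicOpen r) z hz).hom a) c m⟩
    haveI := hg'
    exact ⟨b.ofIsLocalizedModule (P.presheaf.stalk z)
      (hD.primeIdealOf ⟨z, hz⟩).asIdeal.primeCompl g'⟩
  obtain ⟨bx⟩ := key x hxD
  obtain ⟨bz⟩ := key y hy
  have hcard : Fintype.card (Module.Free.ChooseBasisIndex Γ(P, P.basicOpen r) Γ(G, P.basicOpen r)) = 1 := by
    rw [← Module.finrank_eq_card_basis bx, ex.finrank_eq, Module.finrank_self]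
  haveI : Unique (Module.Free.ChooseBasisIndex Γ(P, P.basicOpen r) Γ(G, P.basicOpen r)) :=
    (Fintype.equivFinOfCardEq hcard).unique
  exact ⟨bz.repr ≪≫ₗ Finsupp.LinearEquiv.finsuppUnique _ _ _⟩

theorem free1_of_iso {G H : P.Modules} (e : G ≅ H) {x : P} (h : Free1 G x) : Free1 H x := by
  obtain ⟨e'⟩ := h
  exact ⟨(((DerSch.stalkFunctor P x).mapIso e).toLinearEquiv).symm ≪≫ₗ e'⟩

/-- Rank-one freeness is stable under pullback. -/
theorem free1_pullback {Q : Scheme.{u}} (g : Q ⟶ P) {G : P.Modules} {z : Q} (h : Free1 G (g z)) :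
    Free1 ((Scheme.Modules.pullback g).obj G) z := by
  obtain ⟨e⟩ := h
  let e1 := ((KFlat.pullStalkIso g z).app G).toLinearEquiv
  letI : Algebra (P.presheaf.stalk (g z)) (Q.presheaf.stalk z) := (g.stalkMap z).hom.toAlgebra
  let e2 : Q.presheaf.stalk z ⊗[P.presheaf.stalk (g z)] G.presheaf.stalk (g z) ≃ₗ[Q.presheaf.stalk z]
      Q.presheaf.stalk z :=
    TensorProduct.AlgebraTensorModule.congr (LinearEquiv.refl (Q.presheaf.stalk z) (Q.presheaf.stalk z)) e ≪≫ₗ
      TensorProduct.AlgebraTensorModule.rid (P.presheaf.stalk (g z)) (Q.presheaf.stalk z) (Q.presheaf.stalk z)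
  exact ⟨e1.trans e2⟩

/-- A stalk of a finitely presented module is finitely presented. -/
theorem finitePresentation_stalk {G : P.Modules} (hG : CohB1.IsFP G) (x : P) :
    Module.FinitePresentation (P.presheaf.stalk x) (G.presheaf.stalk x) := by
  have hq := FibDepth.isQCoh_of_isFP hG
  haveI := hq
  obtain ⟨U, hU, hxU⟩ := Groth.Agent.QC.exists_affine_mem x
  haveI := LocFree.finitePresentation_sections_of_isFP hq hG hU
  letI := (P.presheaf.germ U x hxU).hom.toAlgebra
  haveI := hU.isLocalization_stalk ⟨x, hxU⟩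
  obtain ⟨g, hg⟩ := LocFree.exists_stalkMap hU hq hxU
  letI := Module.compHom (G.presheaf.stalk x) (P.presheaf.germ U x hxU).hom
  haveI : IsScalarTower Γ(P, U) (P.presheaf.stalk x) (G.presheaf.stalk x) :=
    ⟨fun a c m => mul_smul ((P.presheaf.germ U x hxU).hom a) c m⟩
  haveI := hg
  exact FinitePresentation.of_isBaseChange g
    ((isLocalizedModule_iff_isBaseChange (hU.primeIdealOf ⟨x, hxU⟩).asIdeal.primeCompl _ g).mp hg)

theorem unique_basis_equiv {B N : Type u} [CommRing B] [Nontrivial B] [AddCommGroup N] [Module B N]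
    [Module.Free B N] [Module.Finite B N] (h : Module.finrank B N = 1) : Nonempty (N ≃ₗ[B] B) := by
  let b := Module.Free.chooseBasis B N
  haveI : Unique (Module.Free.ChooseBasisIndex B N) :=
    (Fintype.equivFinOfCardEq ((Module.finrank_eq_card_basis b).symm.trans h)).unique
  exact ⟨b.repr ≪≫ₗ Finsupp.LinearEquiv.finsuppUnique _ _ _⟩

/-- Descent of rank-one freeness along a faithfully flat ring map. -/
theorem free1_descent {B O N : Type u} [CommRing B] [IsLocalRing B] [CommRing O] [IsLocalRing O] [Algebra B O]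
    [IsLocalHom (algebraMap B O)] [Module.Flat B O] [AddCommGroup N] [Module B N]
    [Module.FinitePresentation B N] (e : O ⊗[B] N ≃ₗ[O] O) : Nonempty (N ≃ₗ[B] B) := by
  haveI : Module.FaithfullyFlat B O := Module.FaithfullyFlat.of_flat_of_isLocalHom
  haveI : Module.Flat O (O ⊗[B] N) := Module.Flat.of_linearEquiv e
  haveI : Module.Flat B N := Module.Flat.of_flat_tensorProduct B N O
  haveI : Module.Free B N := Module.free_of_flat_of_isLocalRing
  refine unique_basis_equiv ?_
  have := Module.finrank_baseChange (R := O) (S := B) (M' := N)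
  rw [← this, e.finrank_eq, Module.finrank_self]

/-- Rank-one freeness descends along flat morphisms. -/
theorem free1_of_pullback {Q : Scheme.{u}} (g : Q ⟶ P) [Flat g] {G : P.Modules} (hG : CohB1.IsFP G) {z : Q}
    (h : Free1 ((Scheme.Modules.pullback g).obj G) z) : Free1 G (g z) := by
  obtain ⟨e⟩ := h
  letI : Algebra (P.presheaf.stalk (g z)) (Q.presheaf.stalk z) := (g.stalkMap z).hom.toAlgebra
  haveI : IsLocalHom (algebraMap (P.presheaf.stalk (g z)) (Q.presheaf.stalk z)) :=
    inferInstanceAs (IsLocalHom (g.stalkMap z).hom)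
  haveI : Module.Flat (P.presheaf.stalk (g z)) (Q.presheaf.stalk z) := Flat.stalkMap g z
  haveI := finitePresentation_stalk hG (g z)
  exact free1_descent ((((KFlat.pullStalkIso g z).app G).toLinearEquiv).symm ≪≫ₗ e)

/-- Freeness of rank one from the fibre and flatness. -/
theorem free1_of_fibre {T : Scheme.{u}} (f : P ⟶ T) {G : P.Modules}
    (hG : CohB1.IsFP G) (s : T) (y : ↥(f.fiber s)) (hflat : FlatMod.IsFlatOverAt f G (f.fiberι s y))
    (hinv : Free1 ((Scheme.Modules.pullback (f.fiberι s)).obj G) y) :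
    Free1 G (f.fiberι s y) := by
  classical
  set x := f.fiberι s y with hxdef
  let A := ↑(T.presheaf.stalk (f x))
  let B := ↑(P.presheaf.stalk x)
  let N := ↑(G.presheaf.stalk x)
  letI : Algebra A B := (f.stalkMap x).hom.toAlgebra
  letI : Module A N := FlatMod.moduleStalkOver f G x
  haveI : IsScalarTower A B N := IsScalarTower.of_algebraMap_smul fun a m => rfl
  haveI : Module.Flat A N := hflat
  haveI : Module.FinitePresentation B N := finitePresentation_stalk hG x
  let 𝔞 : Ideal B := (IsLocalRing.maximalIdeal A).map (algebraMap A B)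
  let O := ↑((f.fiber s).presheaf.stalk y)
  letI : Algebra B O := ((f.fiberι s).stalkMap y).hom.toAlgebra
  obtain ⟨hsur, hker⟩ := FibCrit.fiberι_stalkMap f s y
  have hker' : RingHom.ker (algebraMap B O) = 𝔞 := hker
  haveI : IsLocalHom (algebraMap A B) := inferInstanceAs (IsLocalHom (f.stalkMap x).hom)
  have hle : 𝔞 ≤ IsLocalRing.maximalIdeal B := Ideal.map_le_iff_le_comap.2 fun a ha =>
    (IsLocalRing.mem_maximalIdeal _).2 fun hu => (IsLocalRing.mem_maximalIdeal a).1 ha (IsUnit.of_map _ a hu)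
  let q : (B ⧸ 𝔞) ≃ₗ[B] O :=
    (Submodule.quotEquivOfEq 𝔞 (LinearMap.ker (Algebra.linearMap B O)) (by rw [← hker']; rfl)).trans
      ((Algebra.linearMap B O).quotKerEquivOfSurjective hsur)
  obtain ⟨e0⟩ := hinv
  let e1 : (O ⊗[B] N) ≃ₗ[O] O := (((KFlat.pullStalkIso (f.fiberι s) y).app G).toLinearEquiv).symm ≪≫ₗ e0
  let e2 : ((B ⧸ 𝔞) ⊗[B] N) ≃ₗ[B] (B ⧸ 𝔞) :=
    TensorProduct.congr q (LinearEquiv.refl B N) ≪≫ₗ e1.restrictScalars B ≪≫ₗ q.symm
  let e3 : ((B ⧸ 𝔞) ⊗[B] N) ≃ₗ[B ⧸ 𝔞] (B ⧸ 𝔞) :=
    LinearEquiv.extendScalarsOfSurjective (R := B) Ideal.Quotient.mk_surjective e2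
  haveI : Nontrivial (B ⧸ 𝔞) := Ideal.Quotient.nontrivial_iff.2
    fun e => (IsLocalRing.maximalIdeal.isMaximal B).ne_top (top_le_iff.1 (e ▸ hle))
  haveI := FlatRes.free_of_fibre_free (A := A) (S := B) (N := N) (IsLocalRing.maximalIdeal A) hle
    (Module.Free.of_equiv e3.symm)
  refine unique_basis_equiv (B := B) (N := N) ?_
  have := Module.finrank_baseChange (R := B ⧸ 𝔞) (S := B) (M' := N)
  rw [← this, e3.finrank_eq, Module.finrank_self]

/-- Rank-one freeness at a point of a base change of a flat finitely presented module descends. -/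
theorem free1_of_baseChange {P' T T' : Scheme.{u}} {top : P' ⟶ P} {q' : P' ⟶ T'} {q : P ⟶ T} {g : T' ⟶ T}
    (hsq : IsPullback top q' q g) {G : P.Modules} (hG : CohB1.IsFP G) {z : P'}
    (hflat : FlatMod.IsFlatOverAt q G (top z)) (h : Free1 ((Scheme.Modules.pullback top).obj G) z) :
    Free1 G (top z) := by
  let t' := q' z
  let t := g t'
  have w : (q'.fiberι t' ≫ top) ≫ q =
      (q'.fiberToSpecResidueField t' ≫ Spec.map (g.residueFieldMap t')) ≫ T.fromSpecResidueField t := by
    rw [Category.assoc, hsq.w, ← Category.assoc, Category.assoc (q'.fiberToSpecResidueField t'),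
      Scheme.Hom.SpecMap_residueFieldMap_fromSpecResidueField, ← Category.assoc]
    congr 1
    exact pullback.condition
  let φ : q'.fiber t' ⟶ q.fiber t := pullback.lift (q'.fiberι t' ≫ top)
    (q'.fiberToSpecResidueField t' ≫ Spec.map (g.residueFieldMap t')) w
  have hφ : φ ≫ q.fiberι t = q'.fiberι t' ≫ top := pullback.lift_fst _ _ _
  have hφ' : φ ≫ q.fiberToSpecResidueField t = q'.fiberToSpecResidueField t' ≫ Spec.map (g.residueFieldMap t') :=
    pullback.lift_snd _ _ _
  have hbig : IsPullback (φ ≫ q.fiberι t) (q'.fiberToSpecResidueField t') q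
      (Spec.map (g.residueFieldMap t') ≫ T.fromSpecResidueField t) := by
    rw [hφ, Scheme.Hom.SpecMap_residueFieldMap_fromSpecResidueField]
    exact (IsPullback.of_hasPullback q' (T'.fromSpecResidueField t')).paste_horiz hsq
  have hsq' : IsPullback φ (q'.fiberToSpecResidueField t') (q.fiberToSpecResidueField t)
      (Spec.map (g.residueFieldMap t')) :=
    IsPullback.of_right hbig hφ' (IsPullback.of_hasPullback q (T.fromSpecResidueField t))
  haveI : Flat φ := by
    refine MorphismProperty.of_isPullback hsq'.flip ?_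
    rw [Flat.SpecMap_iff]
    algebraize [(g.residueFieldMap t').hom]
    exact RingHom.flat_algebraMap_iff.2 inferInstance
  obtain ⟨y', hy'⟩ : z ∈ Set.range (q'.fiberι t') := by
    rw [Scheme.Hom.range_fiberι]; rfl
  have hy : q.fiberι t (φ y') = top z := by
    rw [← Scheme.Hom.comp_apply, hφ, Scheme.Hom.comp_apply, hy']
  rw [← hy]
  refine free1_of_fibre q hG t (φ y') (by rw [hy]; exact hflat) ?_
  have hfp : CohB1.IsFP ((Scheme.Modules.pullback (q.fiberι t)).obj G) :=
    ModDesc.isFP_pullback _ (FibDepth.isQCoh_of_isFP hG) hG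
  refine free1_of_pullback φ hfp ?_
  refine free1_of_iso (((Scheme.Modules.pullbackComp (q'.fiberι t') top).app G) ≪≫
    (Scheme.Modules.pullbackCongr hφ.symm).app G ≪≫ ((Scheme.Modules.pullbackComp φ (q.fiberι t)).app G).symm) ?_
  exact free1_pullback (q'.fiberι t') (by rw [hy']; exact h)

end Groth.Agent.PicStOpen

end
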