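import Groth.Agent.PicStOpen.Locus
import Groth.Agent.AlgStLib.OpenSub
import Groth.Agent.ModStLib.FibGrpd
import Groth.Agent.RefStalk.RankOne
import Groth.Agent.ZeroSch.Basic
import Groth.Agent.CurveRR.Curve

/-!
The Picard stack is open in the stack of finitely presented flat modules.
-/

set_option autoImplicit false
set_option backward.isDefEq.respectTransparency false
set_option backward.isDefEq.respectTransparency.types false
set_option linter.style.haveILetI false

universe u

open CategoryTheory CategoryTheory.Limits AlgebraicGeometry TopologicalSpace Opposite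
open Groth.Agent.PicBdd (Free1)
open Groth.Agent.FibCatRep Groth.Agent.FibCat2Misc Groth.Agent.AlgSpLib Groth.Agent.StkBasic Groth.Agent.AlgStLib
open _root_.AlgSp _root_.AlgSt

noncomputable section

namespace Groth.Agent.PicStOpen

/-- Inclusions of full subcategories cut out by open conditions on the charts are open immersions. -/
theorem isOpenImm_subIncl {S : Scheme.{u}} {𝒳 : AlgSt.Cat S} (Q : 𝒳.obj → Prop)
    (hiso : ∀ {a b : 𝒳.obj}, (a ≅ b) → Q a → Q b)
    (h : ∀ (U : Over S) (y : FibCat.overCat U ⥤ᵇ 𝒳), ∃ W : U.left.Opens,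
      ∀ o, Q (y.obj o) ↔ ∀ t, o.hom.left t ∈ W) :
    AlgSt.IsOpenImm (AlgSt.subIncl 𝒳 Q) := by
  intro U y
  obtain ⟨W, hW⟩ := h U y
  let U' : Over S := Over.mk (W.ι ≫ U.hom)
  let j : U' ⟶ U := Over.homMk W.ι
  have hQ : ∀ o : (FibCat.overCat U').obj, Q ((BasedFunctor.comp (AlgSt.overMap j) y).obj o) := fun o => by
    refine (hW ((AlgSt.overMap j).obj o)).2 fun t => ?_
    exact (o.hom.left t).2
  let L : FibCat.overCat U' ⥤ᵇ FibCat.fp y (AlgSt.subIncl 𝒳 Q) :=
    FibCat.fpLift (AlgSt.overMap j) (liftSub Q (BasedFunctor.comp (AlgSt.overMap j) y) hQ) (Iso.refl _)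
  haveI : L.toFunctor.Faithful := ⟨fun {a b} m m' h => by
    have := congrArg (fun t => t.hom.fst.left) h
    exact Over.OverMorphism.ext this⟩
  haveI : L.toFunctor.Full := ⟨fun {a b} n => by
    refine ⟨Over.homMk n.hom.fst.left ?_, ?_⟩
    · refine Over.OverMorphism.ext ((cancel_mono W.ι).1 ?_)
      have w := congrArg CommaMorphism.left (Over.w n.hom.fst)
      simpa [L, j, AlgSt.overMap, FibCat.fpLift] using w
    · refine ObjectProperty.hom_ext _ (CategoricalPullback.hom_ext (Over.OverMorphism.ext rfl) ?_)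
      refine ObjectProperty.hom_ext _ ?_
      have w : y.map n.hom.fst ≫ (L.obj b).obj.iso.hom = (L.obj a).obj.iso.hom ≫ n.hom.snd.hom := n.hom.w
      show y.map _ = n.hom.snd.hom
      simp [L, FibCat.fpLift] at w
      convert ((Category.comp_id _).symm.trans w).trans (Category.id_comp _) using 2
      exact Over.OverMorphism.ext rfl⟩
  have hL : FibCat.IsEquivOver L := by
    refine isEquivOver_of_fullyFaithful L fun η => ?_
    obtain ⟨h₁, h₂⟩ := map_iso_hom η
    have hin : Q (y.obj η.obj.fst) := hiso η.obj.iso.symm η.obj.snd.property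
    have hr : Set.range η.obj.fst.hom.left ⊆ Set.range W.ι := by
      rintro _ ⟨t, rfl⟩
      rw [Scheme.Opens.range_ι]
      exact (hW η.obj.fst).1 hin t
    let g := IsOpenImmersion.lift W.ι η.obj.fst.hom.left hr
    have hg : g ≫ W.ι = η.obj.fst.hom.left := IsOpenImmersion.lift_fac _ _ _
    let ξ : (FibCat.overCat U').obj := Over.mk (Over.homMk g (by
      show g ≫ W.ι ≫ U.hom = η.obj.fst.left.hom
      rw [← Category.assoc, hg, Over.w η.obj.fst.hom]) : η.obj.fst.left ⟶ U')
    let a : (AlgSt.overMap j).obj ξ ≅ η.obj.fst := Over.isoMk (Iso.refl _) (by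
      refine Over.OverMorphism.ext ?_
      simpa [ξ, j, AlgSt.overMap] using hg.symm)
    let b : (liftSub Q (BasedFunctor.comp (AlgSt.overMap j) y) hQ).obj ξ ≅ η.obj.snd :=
      ObjectProperty.isoMk _ (y.toFunctor.mapIso a ≪≫ η.obj.iso)
    refine ⟨ξ, ObjectProperty.isoMk _ (CategoricalPullback.mkIso a b (by
      simp [L, b, liftSub, FibCat.fpLift, AlgSt.subIncl]
      exact (Category.id_comp _).symm)), rfl, ?_⟩
    show (FibCat.overCat U).p.map a.hom = _
    rfl
  refine ⟨spOf U', BasedFunctor.comp (AlgSt.toOverCat U') L, isEquivOver_comp (isEquivOver_toOverCat U') hL, ?_⟩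
  have hmap : AlgSt.spMapOfOver (BasedFunctor.comp (BasedFunctor.comp (AlgSt.toOverCat U') L)
      (FibCat.fpFst y (AlgSt.subIncl 𝒳 Q))) = (yon S).map j :=
    ObjectProperty.hom_ext _ (by ext T x; apply ULift.ext; rfl)
  rw [hmap]
  exact (repWith_yon_iff _).2 (inferInstanceAs (IsOpenImmersion W.ι))

/-- A cartesian comparison exhibits the inverse image. -/
theorem nonempty_iso_of_isCart {Y Z : Scheme.{u}} {h : Y ⟶ Z} {N : Z.Modules} {M : Y.Modules}
    {c : N ⟶ (Scheme.Modules.pushforward h).obj M} (hc : ModSt.IsCart h c) :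
    Nonempty ((Scheme.Modules.pullback h).obj N ≅ M) := by
  have hu := ModStLib.isCart_unit h N
  obtain ⟨a, ha⟩ := (hu M).2 c
  obtain ⟨b, hb⟩ := (hc _).2 ((Scheme.Modules.pullbackPushforwardAdjunction h).unit.app N)
  dsimp only at ha hb
  refine ⟨⟨a, b, (hu _).1 ?_, (hc _).1 ?_⟩⟩
  · dsimp only
    rw [CategoryTheory.Functor.map_comp, ← Category.assoc, ha, hb, CategoryTheory.Functor.map_id]
    exact (Category.comp_id _).symm
  · dsimp only
    rw [CategoryTheory.Functor.map_comp, ← Category.assoc, hb, ha, CategoryTheory.Functor.map_id]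
    exact (Category.comp_id _).symm

theorem rankOne_iff {P : Scheme.{u}} {G : P.Modules} (hG : CohB1.IsFP G) :
    FlatMod.IsFinLocFreeOfRank 1 G ↔ ∀ x, Free1 G x :=
  ⟨fun h x => PicBdd.free1_of_isInvertible (ZeroSch.isInvertible_of_rankOne h) x, fun h =>
    CurveRR.isFinLocFreeOfRank_one
      (RefStalk.isInvertible_of_stalk_equiv (FibDepth.isQCoh_of_isFP hG) (ModDesc.isFT_of_isFP hG) h)⟩

variable {X S : Scheme.{u}} {f : X ⟶ S}

/-- The open locus of a family over which it is invertible, compatibly with base change. -/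
theorem exists_open [IsProper f] (A : (ModSt.Coh f).obj) :
    ∃ W : A.obj.base.left.Opens, ∀ (B : (ModSt.Coh f).obj) (m : B ⟶ A),
      FlatMod.IsFinLocFreeOfRank 1 B.obj.E ↔ ∀ t, m.hom.base.left t ∈ W := by
  haveI : IsProper A.obj.q := MorphismProperty.of_isPullback A.obj.isPullback ‹IsProper f›
  obtain ⟨hflat, hfp⟩ := A.property
  let Z : Set A.obj.XT := {x | Free1 A.obj.E x}ᶜ
  have hZ : IsClosed Z := (isOpen_free1 hfp).isClosed_compl
  refine ⟨⟨(A.obj.q '' Z)ᶜ, (A.obj.q.isClosedMap _ hZ).isOpen_compl⟩, fun B m => ?_⟩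
  obtain ⟨e⟩ := nonempty_iso_of_isCart m.hom.cart
  have hsq := m.hom.isPullback_top
  rw [rankOne_iff B.property.2]
  constructor
  · intro h t
    rintro ⟨x, hx, hxt⟩
    obtain ⟨z, hz₁, hz₂⟩ := Scheme.exists_preimage_of_isPullback hsq x t hxt
    refine hx ?_
    show Free1 A.obj.E x
    rw [← hz₁]
    exact free1_of_baseChange hsq hfp (hflat _) (free1_of_iso e.symm (h z))
  · intro h z
    refine free1_of_iso e (free1_pullback m.hom.top ?_)
    by_contra hc
    refine h (B.obj.q z) ⟨m.hom.top z, hc, ?_⟩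
    rw [← Scheme.Hom.comp_apply, m.hom.w_q]
    rfl

theorem isOpenImm_rankOne [IsProper f] :
    AlgSt.IsOpenImm (AlgSt.subIncl (ModSt.Coh f) fun A => FlatMod.IsFinLocFreeOfRank 1 A.obj.E) := by
  refine isOpenImm_subIncl _ (fun {a b} i ha => ?_) fun U y => ?_
  · obtain ⟨W, hW⟩ := exists_open (f := f) a
    refine (hW b i.inv).2 fun t => ?_
    have h1 := (hW a (𝟙 a)).1 ha (i.inv.hom.base.left t)
    exact h1
  · let o₀ : (FibCat.overCat U).obj := Over.mk (𝟙 U)
    obtain ⟨W, hW⟩ := exists_open (f := f) (y.obj o₀)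
    let ι : U ⟶ (y.obj o₀).obj.base := eqToHom (y.w_obj o₀).symm
    refine ⟨ι.left ⁻¹ᵁ W, fun o => ?_⟩
    let n : o ⟶ o₀ := Over.homMk o.hom
    rw [hW _ (y.map n)]
    let η : (y.obj o).obj.base ⟶ o.left := eqToHom (y.w_obj o)
    have hb : (y.map n).hom.base = η ≫ o.hom ≫ ι := map_map y n
    constructor
    · intro h t
      have h' := h ((eqToHom (y.w_obj o).symm : o.left ⟶ (y.obj o).obj.base).left t)
      rw [hb] at h'
      rw [← Scheme.Hom.comp_apply, ← Over.comp_left] at h'
      have e : (eqToHom (y.w_obj o).symm : o.left ⟶ (y.obj o).obj.base) ≫ η ≫ o.hom ≫ ι = o.hom ≫ ι := by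
        simp [η]
      rw [e] at h'
      exact h'
    · intro h t
      rw [hb]
      exact h (η.left t)

end Groth.Agent.PicStOpen

end
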